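import Groth.Agent.Sga3.H815.VecPoly
import Mathlib.Algebra.Lie.UniversalEnveloping
import Mathlib.Algebra.Polynomial.Eval.Degree
import Mathlib.Algebra.Algebra.Operations
import Mathlib.Algebra.Polynomial.AlgebraMap
import Mathlib.Tactic.NoncommRing

/-!
# Universal enveloping algebras in characteristic zero are spanned by powers

Let `A` be an algebra over a field `k` of characteristic zero and `P` a subspace of `A` closed under commutators.
Then every product of `n` elements of `P` is a linear combination of powers `x ^ i`, `x ∈ P`, `i ≤ n`.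
In particular the universal enveloping algebra of a Lie algebra `L` is spanned by the powers of the elements of `L`
(`span_pow_eq_top`). No Poincaré-Birkhoff-Witt theorem is used.
-/

set_option autoImplicit false

namespace Groth.Agent.Sga3.H815.PowSpan

open Polynomial

section General

variable {k A : Type*} [Field k] [CharZero k] [Ring A] [Algebra k A] (P : Submodule k A)

/-- The span of the powers `x ^ i`, `x ∈ P`, `i ≤ n`. -/
def W (n : ℕ) : Submodule k A := Submodule.span k {u | ∃ x ∈ P, ∃ i ≤ n, u = x ^ i}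

omit [CharZero k] in
theorem pow_mem_W {x : A} (hx : x ∈ P) {i n : ℕ} (h : i ≤ n) : x ^ i ∈ W P n :=
  Submodule.subset_span ⟨x, hx, i, h, rfl⟩

omit [CharZero k] in
theorem W_mono {n m : ℕ} (h : n ≤ m) : W P n ≤ W P m :=
  Submodule.span_mono fun _ ⟨x, hx, i, hi, e⟩ => ⟨x, hx, i, hi.trans h, e⟩

omit [CharZero k] in
/-- The linear coefficient of `(x + yT)^(n+1)`. -/
theorem coeff_one_pow (x y : A) (n : ℕ) :
    ((C x + C y * X) ^ (n + 1) : A[X]).coeff 1 = ∑ a ∈ Finset.range (n + 1), x ^ a * y * x ^ (n - a) := by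
  have h0 : ∀ m : ℕ, ((C x + C y * X) ^ m : A[X]).coeff 0 = x ^ m := by
    intro m
    induction m with
    | zero => simp
    | succ m ih => rw [pow_succ, mul_coeff_zero, ih, pow_succ]; simp
  induction n with
  | zero => simp
  | succ n ih =>
    rw [pow_succ, mul_coeff_one, ih, h0, Finset.sum_range_succ _ (n + 1), Finset.sum_mul, add_comm]
    congr 1
    · refine Finset.sum_congr rfl fun a ha => ?_
      have ha' : a ≤ n := Nat.lt_succ_iff.1 (Finset.mem_range.1 ha)
      rw [Nat.sub_add_comm ha', pow_succ]
      simp [mul_assoc]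
    · simp [coeff_C]

/-- Polarization. -/
theorem sym_mem {x y : A} (hx : x ∈ P) (hy : y ∈ P) (n : ℕ) :
    ∑ a ∈ Finset.range (n + 1), x ^ a * y * x ^ (n - a) ∈ W P (n + 1) := by
  rw [← coeff_one_pow]
  set q : A[X] := (C x + C y * X) ^ (n + 1) with hq
  refine VecPoly.mem_of_forall_nat (k := k) (W P (n + 1)) (q.natDegree + 2) q.coeff ?_ (by omega)
  intro t
  have h1 : ∑ i ∈ Finset.range (q.natDegree + 2), ((t : k) ^ i) • q.coeff i = (x + y * (t : A)) ^ (n + 1) := by
    have h2 : eval₂RingHom' (RingHom.id A) (t : A) (fun a => (Nat.cast_commute t a).symm) q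
        = (x + y * (t : A)) ^ (n + 1) := by
      rw [hq, map_pow, map_add, map_mul]
      simp [eval₂RingHom']
    rw [← h2]
    simp only [eval₂RingHom', RingHom.coe_mk, MonoidHom.coe_mk, OneHom.coe_mk]
    rw [eval₂_eq_sum_range' (RingHom.id A) (n := q.natDegree + 2) (by omega)]
    refine Finset.sum_congr rfl fun i _ => ?_
    rw [Algebra.smul_def, map_pow, map_natCast, RingHom.id_apply]
    exact ((Nat.cast_commute t (q.coeff i)).pow_left i).eq
  rw [h1]
  refine pow_mem_W P ?_ le_rfl
  refine P.add_mem hx ?_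
  rw [← Nat.cast_commute t y |>.eq, ← nsmul_eq_mul]
  exact P.smul_of_tower_mem t hy

omit [CharZero k] in
/-- Commutators of powers. -/
theorem comm_mem (hP : ∀ x ∈ P, ∀ y ∈ P, x * y - y * x ∈ P) {x y : A} (hx : x ∈ P) (hy : y ∈ P) (a : ℕ) :
    y * x ^ a - x ^ a * y ∈ P ^ a := by
  induction a with
  | zero => simp
  | succ a ih =>
    have : y * x ^ (a + 1) - x ^ (a + 1) * y = (y * x ^ a - x ^ a * y) * x + x ^ a * (y * x - x * y) := by
      rw [pow_succ]; noncomm_ring
    rw [this, pow_succ P]
    exact add_mem (Submodule.mul_mem_mul ih hx) (Submodule.mul_mem_mul (Submodule.pow_mem_pow P hx a) (hP y hy x hx))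

/-- Products of `n` elements of `P` lie in the span of the powers of exponents at most `n`. -/
theorem pow_le_W (hP : ∀ x ∈ P, ∀ y ∈ P, x * y - y * x ∈ P) (n : ℕ) : P ^ n ≤ W P n := by
  induction n using Nat.strong_induction_on with
  | _ n IH =>
    cases n with
    | zero =>
      rw [pow_zero, Submodule.one_le]
      simpa using pow_mem_W P P.zero_mem (i := 0) (n := 0) le_rfl
    | succ n =>
      rw [pow_succ']
      refine (mul_le_mul' le_rfl (IH n (Nat.lt_succ_self n))).trans ?_
      rw [Submodule.mul_le]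
      intro y hy w hw
      induction hw using Submodule.span_induction with
      | zero => simp
      | add u v _ _ hu hv => rw [mul_add]; exact add_mem hu hv
      | smul c u _ hu => rw [mul_smul_comm]; exact Submodule.smul_mem _ _ hu
      | mem u hu =>
        obtain ⟨x, hx, i, hi, rfl⟩ := hu
        rcases lt_or_eq_of_le hi with hlt | rfl
        · refine W_mono P (show i + 1 ≤ n + 1 by omega) (IH (i + 1) (by omega) ?_)
          rw [pow_succ']
          exact Submodule.mul_mem_mul hy (Submodule.pow_mem_pow P hx i)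
        · have key : ((i + 1 : ℕ) : k) • (y * x ^ i) = ∑ a ∈ Finset.range (i + 1), x ^ a * y * x ^ (i - a)
              + ∑ a ∈ Finset.range (i + 1), (y * x ^ a - x ^ a * y) * x ^ (i - a) := by
            rw [← Finset.sum_add_distrib]
            have : ∀ a ∈ Finset.range (i + 1), x ^ a * y * x ^ (i - a) + (y * x ^ a - x ^ a * y) * x ^ (i - a)
                = y * x ^ i := by
              intro a ha
              have ha' : a ≤ i := Nat.lt_succ_iff.1 (Finset.mem_range.1 ha)
              have : x ^ i = x ^ a * x ^ (i - a) := by rw [← pow_add, Nat.add_sub_cancel' ha']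
              rw [this]; noncomm_ring
            rw [Finset.sum_congr rfl this, Finset.sum_const, Finset.card_range, Nat.cast_smul_eq_nsmul]
          have hmem : ((i + 1 : ℕ) : k) • (y * x ^ i) ∈ W P (i + 1) := by
            rw [key]
            refine add_mem (sym_mem P hx hy i) (Submodule.sum_mem _ fun a ha => ?_)
            have ha' : a ≤ i := Nat.lt_succ_iff.1 (Finset.mem_range.1 ha)
            refine W_mono P (Nat.le_succ i) (IH i (Nat.lt_succ_self i) ?_)
            have : P ^ i = P ^ a * P ^ (i - a) := by rw [← pow_add, Nat.add_sub_cancel' ha']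
            rw [this]
            exact Submodule.mul_mem_mul (comm_mem P hP hx hy a) (Submodule.pow_mem_pow P hx _)
          have hne : ((i + 1 : ℕ) : k) ≠ 0 := Nat.cast_ne_zero.2 (Nat.succ_ne_zero i)
          have := Submodule.smul_mem _ (((i + 1 : ℕ) : k)⁻¹) hmem
          rwa [smul_smul, inv_mul_cancel₀ hne, one_smul] at this

/-- If `P` generates `A` then `A` is spanned by the powers of elements of `P`. -/
theorem span_pow_eq_top_of_adjoin (hP : ∀ x ∈ P, ∀ y ∈ P, x * y - y * x ∈ P)
    (hgen : Algebra.adjoin k (P : Set A) = ⊤) :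
    Submodule.span k {u : A | ∃ x ∈ P, ∃ i : ℕ, u = x ^ i} = ⊤ := by
  set V := Submodule.span k {u : A | ∃ x ∈ P, ∃ i : ℕ, u = x ^ i} with hV
  have hWV : ∀ n, W P n ≤ V := fun n => Submodule.span_mono fun _ ⟨x, hx, i, _, e⟩ => ⟨x, hx, i, e⟩
  have hPV : ∀ y ∈ P, ∀ w ∈ V, y * w ∈ V := by
    intro y hy w hw
    induction hw using Submodule.span_induction with
    | zero => simp
    | add u v _ _ hu hv => rw [mul_add]; exact add_mem hu hv
    | smul c u _ hu => rw [mul_smul_comm]; exact Submodule.smul_mem _ _ hu
    | mem u hu =>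
      obtain ⟨x, hx, i, rfl⟩ := hu
      refine hWV (i + 1) (pow_le_W P hP (i + 1) ?_)
      rw [pow_succ']
      exact Submodule.mul_mem_mul hy (Submodule.pow_mem_pow P hx i)
  have h1 : (1 : A) ∈ V := Submodule.subset_span ⟨0, P.zero_mem, 0, by simp⟩
  have hall : ∀ a : A, ∀ w ∈ V, a * w ∈ V := by
    intro a
    have ha : a ∈ Algebra.adjoin k (P : Set A) := by rw [hgen]; trivial
    induction ha using Algebra.adjoin_induction with
    | mem x hx => exact hPV x hx
    | algebraMap r => intro w hw; rw [← Algebra.smul_def]; exact V.smul_mem r hw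
    | add x y _ _ hx hy => intro w hw; rw [add_mul]; exact add_mem (hx w hw) (hy w hw)
    | mul x y _ _ hx hy => intro w hw; rw [mul_assoc]; exact hx _ (hy w hw)
  rw [eq_top_iff]
  intro a _
  simpa using hall a 1 h1

end General

section UEA

attribute [local instance] LieRing.ofAssociativeRing

variable (k : Type*) [Field k] (L : Type*) [LieRing L] [LieAlgebra k L]

/-- The universal enveloping algebra is generated by the Lie algebra. -/
theorem adjoin_range_ι :
    Algebra.adjoin k (Set.range (UniversalEnvelopingAlgebra.ι k (L := L))) = ⊤ := by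
  set S := Algebra.adjoin k (Set.range (UniversalEnvelopingAlgebra.ι k (L := L))) with hS
  have hmem : ∀ x : L, UniversalEnvelopingAlgebra.ι k x ∈ S := fun x => Algebra.subset_adjoin ⟨x, rfl⟩
  let f : L →ₗ⁅k⁆ S :=
    { toFun := fun x => ⟨UniversalEnvelopingAlgebra.ι k x, hmem x⟩
      map_add' := fun x y => Subtype.ext (map_add (UniversalEnvelopingAlgebra.ι k) x y)
      map_smul' := fun c x => Subtype.ext (map_smul (UniversalEnvelopingAlgebra.ι k) c x)
      map_lie' := fun {x y} => Subtype.ext (by
        change UniversalEnvelopingAlgebra.ι k ⁅x, y⁆ = _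
        rw [LieHom.map_lie]
        rfl) }
  have h : S.val.comp (UniversalEnvelopingAlgebra.lift k f) = AlgHom.id k (UniversalEnvelopingAlgebra k L) := by
    apply UniversalEnvelopingAlgebra.hom_ext
    ext x
    change S.val (UniversalEnvelopingAlgebra.lift k f (UniversalEnvelopingAlgebra.ι k x)) = _
    rw [UniversalEnvelopingAlgebra.lift_ι_apply]
    rfl
  rw [eq_top_iff]
  intro u _
  have := congrArg (fun g => g u) h
  simp only [AlgHom.comp_apply, AlgHom.id_apply] at this
  rw [← this]
  exact (UniversalEnvelopingAlgebra.lift k f u).2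

/-- In characteristic zero the universal enveloping algebra is spanned by the powers of elements of the Lie
algebra. -/
theorem span_pow_eq_top [CharZero k] :
    Submodule.span k {u : UniversalEnvelopingAlgebra k L |
      ∃ (x : L) (i : ℕ), u = UniversalEnvelopingAlgebra.ι k x ^ i} = ⊤ := by
  have := span_pow_eq_top_of_adjoin (k := k) (A := UniversalEnvelopingAlgebra k L)
    (LinearMap.range (UniversalEnvelopingAlgebra.ι k (L := L) : L →ₗ[k] UniversalEnvelopingAlgebra k L)) ?_ ?_
  · rw [← this]
    congr 1
    ext u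
    constructor
    · rintro ⟨x, i, rfl⟩
      exact ⟨_, ⟨x, rfl⟩, i, rfl⟩
    · rintro ⟨_, ⟨x, rfl⟩, i, rfl⟩
      exact ⟨x, i, rfl⟩
  · rintro _ ⟨x, rfl⟩ _ ⟨y, rfl⟩
    refine ⟨⁅x, y⁆, ?_⟩
    change UniversalEnvelopingAlgebra.ι k ⁅x, y⁆ = _
    rw [LieHom.map_lie]
    rfl
  · exact adjoin_range_ι k L

end UEA

end Groth.Agent.Sga3.H815.PowSpan
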