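import Groth.Agent.Sga3.H815.Adams
import Groth.Agent.Sga3.H815.PowSpan

/-!
# The Cartier-Milnor-Moore theorem (cocommutative connected case)

Over a field of characteristic zero a connected cocommutative bialgebra is the universal enveloping algebra of its
primitive elements.  The inverse of `U(Prim H) → H` is `exp (ι ∘ e 1)` for the convolution product, where `e 1` is
the first Eulerian idempotent.
-/

set_option autoImplicit false

namespace Groth.Agent.Sga3.H815.CMM

open TensorProduct Coalgebra WithConv LocNil Adams

attribute [local instance] LieRing.ofAssociativeRing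

variable {k : Type*} [Field k] [CharZero k] {H : Type*} [Ring H] [Bialgebra k H] [IsCocomm k H]
  (hN : ∀ h : H, ∃ n, h ∈ N k H n)

/-- `e 1` as a linear map to the Lie algebra of primitive elements. -/
noncomputable def ePrim : H →ₗ[k] SGA3y.primLie k H where
  toFun h := ⟨e hN 1 h, comul_e_one hN h⟩
  map_add' x y := Subtype.ext (map_add (e hN 1) x y)
  map_smul' c x := Subtype.ext (map_smul (e hN 1) c x)

/-- `ι ∘ e 1` in the convolution algebra of maps `H → U(Prim H)`. -/
noncomputable def F : WithConv (H →ₗ[k] UniversalEnvelopingAlgebra k (SGA3y.primLie k H)) :=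
  toConv ((UniversalEnvelopingAlgebra.ι k (L := SGA3y.primLie k H) :
    SGA3y.primLie k H →ₗ[k] UniversalEnvelopingAlgebra k (SGA3y.primLie k H)) ∘ₗ ePrim hN)

theorem F_pow_prim (x : SGA3y.primLie k H) (m : ℕ) :
    F hN ((x : H) ^ m) = if m = 1 then UniversalEnvelopingAlgebra.ι k x else 0 := by
  have h1 : ePrim hN ((x : H) ^ m) = if m = 1 then x else 0 := by
    apply Subtype.ext
    change e hN 1 ((x : H) ^ m) = _
    rw [e_pow_prim x.2 hN]
    by_cases hm : m = 1
    · subst hm
      simp
    · rw [if_neg hm, if_neg (fun h => hm h.symm)]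
      rfl
  change UniversalEnvelopingAlgebra.ι k (ePrim hN ((x : H) ^ m)) = _
  rw [h1]
  by_cases hm : m = 1
  · rw [if_pos hm, if_pos hm]
  · rw [if_neg hm, if_neg hm, map_zero]

theorem F_pow_pow (x : SGA3y.primLie k H) (n m : ℕ) :
    (F hN ^ n) ((x : H) ^ m) = if m = n then (n.factorial : k) • UniversalEnvelopingAlgebra.ι k x ^ n else 0 := by
  induction n generalizing m with
  | zero =>
    rw [pow_zero, LinearMap.convOne_apply]
    by_cases hm : m = 0
    · subst hm
      simp
    · rw [counit_pow x.2 m hm, map_zero, if_neg hm]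
  | succ n ih =>
    rw [pow_succ', conv_pow_apply x.2]
    cases m with
    | zero =>
      rw [Finset.sum_range_one, F_pow_prim]
      simp
    | succ m =>
      rw [Finset.sum_eq_single 1]
      · rw [F_pow_prim, if_pos rfl, ih, Nat.choose_one_right, Nat.add_sub_cancel]
        by_cases hm : m = n
        · subst hm
          rw [if_pos rfl, if_pos rfl, mul_smul_comm, ← Nat.cast_smul_eq_nsmul k, smul_smul, ← pow_succ',
            Nat.factorial_succ, Nat.cast_mul]
        · rw [if_neg hm, if_neg (by omega), mul_zero, smul_zero]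
      · intro i _ hi
        rw [F_pow_prim, if_neg hi, zero_mul, smul_zero]
      · intro h
        exact absurd (Finset.mem_range.2 (by omega)) h

/-- The canonical map `U(Prim H) → H`. -/
noncomputable abbrev phi (k : Type*) [Field k] (H : Type*) [Ring H] [Bialgebra k H] :
    UniversalEnvelopingAlgebra k (SGA3y.primLie k H) →ₐ[k] H :=
  UniversalEnvelopingAlgebra.lift k (SGA3y.primLie k H).incl

omit [CharZero k] [IsCocomm k H] in
theorem phi_ι (x : SGA3y.primLie k H) : phi k H (UniversalEnvelopingAlgebra.ι k x) = x :=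
  UniversalEnvelopingAlgebra.lift_ι_apply k _ x

/-- Every element of `U(Prim H)` is recovered from its image. -/
theorem exists_eq_sum (u : UniversalEnvelopingAlgebra k (SGA3y.primLie k H)) :
    ∃ M₀ : ℕ, ∀ M, M₀ ≤ M → u = ∑ n ∈ Finset.range M, ((n.factorial : k)⁻¹) • (F hN ^ n) (phi k H u) := by
  have hu : u ∈ Submodule.span k {u : UniversalEnvelopingAlgebra k (SGA3y.primLie k H) |
      ∃ (x : SGA3y.primLie k H) (i : ℕ), u = UniversalEnvelopingAlgebra.ι k x ^ i} := by
    rw [PowSpan.span_pow_eq_top]
    trivial
  induction hu using Submodule.span_induction with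
  | zero => exact ⟨0, fun M _ => by simp⟩
  | add u v _ _ hu hv =>
    obtain ⟨a, ha⟩ := hu
    obtain ⟨b, hb⟩ := hv
    refine ⟨max a b, fun M hM => ?_⟩
    have h1 := ha M ((le_max_left a b).trans hM)
    have h2 := hb M ((le_max_right a b).trans hM)
    simp only [map_add, smul_add, Finset.sum_add_distrib]
    rw [← h1, ← h2]
  | smul c u _ hu =>
    obtain ⟨a, ha⟩ := hu
    refine ⟨a, fun M hM => ?_⟩
    have h1 := ha M hM
    simp only [map_smul]
    simp only [smul_comm _ c, ← Finset.smul_sum]
    rw [← h1]
  | mem u hu =>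
    obtain ⟨x, i, rfl⟩ := hu
    refine ⟨i + 1, fun M hM => ?_⟩
    rw [map_pow, phi_ι, Finset.sum_eq_single i]
    · rw [F_pow_pow, if_pos rfl, smul_smul, inv_mul_cancel₀ (Nat.cast_ne_zero.2 (Nat.factorial_ne_zero i)), one_smul]
    · intro n _ hn
      rw [F_pow_pow, if_neg (fun h => hn h.symm), smul_zero]
    · intro h
      exact absurd (Finset.mem_range.2 (by omega)) h

theorem e_mem_range (j : ℕ) (h : H) : e hN j h ∈ (phi k H).range := by
  have h1 : ∀ x : H, e hN 1 x ∈ (phi k H).range := fun x => ⟨UniversalEnvelopingAlgebra.ι k (ePrim hN x), phi_ι _⟩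
  induction j generalizing h with
  | zero =>
    rw [e_zero_apply]
    exact (phi k H).range.algebraMap_mem _
  | succ j ih =>
    have hmem : (toConv (e hN 1) * toConv (e hN j)) h ∈ (phi k H).range := by
      rw [LinearMap.convMul_apply]
      generalize (comul h : H ⊗[k] H) = t
      induction t using TensorProduct.induction_on with
      | zero => rw [map_zero, map_zero]; exact zero_mem _
      | add x y hx hy => rw [map_add, map_add]; exact add_mem hx hy
      | tmul x y =>
        rw [TensorProduct.map_tmul, LinearMap.mul'_apply]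
        exact mul_mem (h1 x) (ih y)
    rw [← succ_smul_e_succ] at hmem
    have hne : ((j + 1 : ℕ) : k) ≠ 0 := Nat.cast_ne_zero.2 (Nat.succ_ne_zero j)
    have := (phi k H).range.smul_mem hmem (((j + 1 : ℕ) : k)⁻¹)
    rwa [smul_smul, inv_mul_cancel₀ hne, one_smul] at this

include hN in
/-- Cartier-Milnor-Moore. -/
theorem bijective_phi : Function.Bijective (phi k H) := by
  constructor
  · rw [injective_iff_map_eq_zero]
    intro u hu
    obtain ⟨M, hM⟩ := exists_eq_sum hN u
    rw [hM M le_rfl, hu]
    simp
  · intro h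
    obtain ⟨d, hd⟩ := hN h
    have : h ∈ (phi k H).range := by
      rw [self_eq_sum hN hd]
      exact sum_mem fun i _ => e_mem_range hN i h
    exact this

end Groth.Agent.Sga3.H815.CMM
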