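import Mathlib.Algebra.Polynomial.Roots
import Mathlib.LinearAlgebra.Dual.Lemmas
import Mathlib.Algebra.CharZero.Infinite

/-!
# Vector valued polynomial functions on the natural numbers

Over a field `k` of characteristic zero: if `∑ i ∈ s, n ^ (m i) • v i = 0` for all natural numbers `n`, then for
every exponent `e` the sum of the `v i` with `m i = e` vanishes (coefficient comparison).
-/

set_option autoImplicit false

namespace Groth.Agent.Sga3.H815.VecPoly

open Polynomial

variable {k : Type*} [Field k] [CharZero k] {V : Type*} [AddCommGroup V] [Module k V]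

/-- A polynomial over a field of characteristic zero vanishing at all natural numbers is zero. -/
theorem poly_eq_of_forall_nat (p q : k[X]) (h : ∀ n : ℕ, p.eval (n : k) = q.eval (n : k)) : p = q := by
  refine Polynomial.eq_of_infinite_eval_eq p q ?_
  refine Set.Infinite.mono (s := Set.range (fun n : ℕ => (n : k))) ?_ ?_
  · rintro _ ⟨n, rfl⟩
    exact h n
  · exact Set.infinite_range_of_injective Nat.cast_injective

/-- Coefficient comparison for vector valued polynomial functions. -/
theorem sum_filter_eq_zero {ι : Type*} (s : Finset ι) (m : ι → ℕ) (v : ι → V)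
    (h : ∀ n : ℕ, ∑ i ∈ s, ((n : k) ^ m i) • v i = 0) (e : ℕ) :
    ∑ i ∈ s with m i = e, v i = 0 := by
  classical
  rw [← Module.forall_dual_apply_eq_zero_iff k]
  intro f
  have hp : (∑ i ∈ s, C (f (v i)) * X ^ m i : k[X]) = 0 := by
    apply poly_eq_of_forall_nat
    intro n
    have := congrArg f (h n)
    simp only [map_sum, map_smul, map_zero, smul_eq_mul] at this
    rw [eval_finsetSum, eval_zero, ← this]
    refine Finset.sum_congr rfl fun i _ => ?_
    rw [eval_mul, eval_C, eval_pow, eval_X, mul_comm]
  have := congrArg (fun p => p.coeff e) hp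
  simp only [finsetSum_coeff, coeff_C_mul, coeff_X_pow, coeff_zero, mul_ite, mul_one, mul_zero] at this
  rw [map_sum, Finset.sum_filter]
  refine Eq.trans (Finset.sum_congr rfl fun i _ => ?_) this
  by_cases hi : m i = e
  · rw [if_pos hi, if_pos hi.symm]
  · rw [if_neg hi, if_neg (fun h => hi h.symm)]

/-- Coefficient comparison, two sides. -/
theorem sum_filter_eq {ι ι' : Type*} (s : Finset ι) (m : ι → ℕ) (v : ι → V) (s' : Finset ι') (m' : ι' → ℕ)
    (v' : ι' → V) (h : ∀ n : ℕ, ∑ i ∈ s, ((n : k) ^ m i) • v i = ∑ i ∈ s', ((n : k) ^ m' i) • v' i) (e : ℕ) :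
    ∑ i ∈ s with m i = e, v i = ∑ i ∈ s' with m' i = e, v' i := by
  classical
  have := sum_filter_eq_zero (k := k) (s.disjSum s') (Sum.elim m m') (Sum.elim v (fun i => - v' i)) (by
    intro n
    rw [Finset.sum_disjSum]
    simp only [Sum.elim_inl, Sum.elim_inr, smul_neg, Finset.sum_neg_distrib, h n]
    exact add_neg_cancel _) e
  rw [Finset.sum_filter, Finset.sum_disjSum] at this
  simp only [Sum.elim_inl, Sum.elim_inr] at this
  refine sub_eq_zero.1 (Eq.trans ?_ this)
  rw [Finset.sum_filter, Finset.sum_filter, sub_eq_add_neg, ← Finset.sum_neg_distrib]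
  congr 1
  refine Finset.sum_congr rfl fun i _ => ?_
  by_cases hi : m' i = e
  · rw [if_pos hi, if_pos hi]
  · rw [if_neg hi, if_neg hi, neg_zero]

/-- Coefficient comparison, one index. -/
theorem eq_zero_of_forall_nat (N : ℕ) (a : ℕ → V)
    (h : ∀ n : ℕ, ∑ i ∈ Finset.range N, ((n : k) ^ i) • a i = 0) {i : ℕ} (hi : i < N) : a i = 0 := by
  have := sum_filter_eq_zero (Finset.range N) (fun i => i) a h i
  rwa [Finset.sum_filter, Finset.sum_ite_eq' (Finset.range N) i, if_pos (Finset.mem_range.2 hi)] at this

/-- Coefficient comparison inside a submodule: if all values of a polynomial function lie in `W`, so do its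
coefficients. -/
theorem mem_of_forall_nat (W : Submodule k V) (N : ℕ) (a : ℕ → V)
    (h : ∀ n : ℕ, ∑ i ∈ Finset.range N, ((n : k) ^ i) • a i ∈ W) {i : ℕ} (hi : i < N) : a i ∈ W := by
  rw [← Submodule.Quotient.mk_eq_zero]
  refine eq_zero_of_forall_nat (k := k) (V := V ⧸ W) N (fun i => W.mkQ (a i)) ?_ hi
  intro n
  have := (Submodule.Quotient.mk_eq_zero W).2 (h n)
  rw [← Submodule.mkQ_apply, map_sum] at this
  simpa using this

end Groth.Agent.Sga3.H815.VecPoly
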