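import Groth.Agent.Sga3.H815.LocNil
import Groth.Agent.Sga3.H815.VecPoly
import Mathlib.RingTheory.Polynomial.Pochhammer
import Mathlib.Algebra.Polynomial.Taylor

/-!
# Adams operations and Eulerian idempotents of a connected cocommutative bialgebra in characteristic zero

`u = id` in the convolution algebra of a bialgebra `H`, whose filtration `N` (see `LocNil`) is exhaustive.
* `e i : H →ₗ H`: the coefficient of `n ^ i` in the polynomial function `n ↦ (u ^ n) h` (`u_pow_apply`);
* `comul_e_one`: `e 1` has values in the primitive elements (cocommutative case);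
* `succ_smul_e_succ`: `(j + 1) e (j+1) = e 1 * e j`;
* `mem_adjoin_prim`: `H` is generated by its primitive elements;
* `e_one_pow`: `e 1 (x ^ m) = δ_{m,1} x` for `x` primitive.
-/

set_option autoImplicit false

namespace Groth.Agent.Sga3.H815.Adams

open TensorProduct Coalgebra WithConv Polynomial LocNil

variable (k : Type*) [Field k] (H : Type*) [Ring H] [Bialgebra k H]

/-- The identity of `H` in the convolution algebra. -/
noncomputable def u : WithConv (H →ₗ[k] H) := toConv LinearMap.id

/-- The augmentation part of the identity. -/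
noncomputable def p : WithConv (H →ₗ[k] H) := u k H - 1

theorem p_one : p k H (1 : H) = 0 := by
  rw [p, ofConv_sub, LinearMap.sub_apply, LinearMap.convOne_apply, Bialgebra.counit_one, map_one (algebraMap k H)]
  exact sub_self _

theorem p_pow_eq_zero {d j : ℕ} (hdj : d ≤ j) {x : H} (hx : x ∈ N k H d) : (p k H ^ j) x = 0 :=
  N_conv_pow (p_one k H) hdj hx

theorem u_pow (n : ℕ) : u k H ^ n = ∑ j ∈ Finset.range (n + 1), (n.choose j) • p k H ^ j := by
  have : u k H = p k H + 1 := by rw [p, sub_add_cancel]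
  rw [this, (Commute.one_right (p k H)).add_pow]
  refine Finset.sum_congr rfl fun j _ => ?_
  rw [one_pow, mul_one, nsmul_eq_mul]
  exact ((Nat.cast_commute _ _).eq).symm

/-- The binomial polynomial. -/
noncomputable def binom (j : ℕ) : k[X] := C ((j.factorial : k)⁻¹) * descPochhammer k j

theorem binom_eval [CharZero k] (j n : ℕ) : (binom k j).eval (n : k) = (n.choose j : k) := by
  rw [Nat.cast_choose_eq_descPochhammer_div, binom, eval_mul, eval_C, div_eq_inv_mul]

theorem binom_natDegree (j : ℕ) : (binom k j).natDegree ≤ j := by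
  refine (natDegree_C_mul_le _ _).trans ?_
  rw [descPochhammer_natDegree]

variable {k H}

section

variable (hN : ∀ h : H, ∃ n, h ∈ N k H n)

theorem support_subset {d : ℕ} {h : H} (hd : h ∈ N k H d) (c : ℕ → k) :
    Function.support (fun j => c j • (p k H ^ j) h) ⊆ (Finset.range d : Set ℕ) := by
  intro j hj
  rw [Function.mem_support] at hj
  rw [Finset.mem_coe, Finset.mem_range]
  by_contra hlt
  exact hj (by rw [p_pow_eq_zero k H (not_lt.1 hlt) hd, smul_zero])

/-- The coefficient of `n ^ i` in `n ↦ (u ^ n) h`. -/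
noncomputable def e (i : ℕ) : H →ₗ[k] H where
  toFun h := ∑ᶠ j, (binom k j).coeff i • (p k H ^ j) h
  map_add' x y := by
    obtain ⟨d, hd⟩ := hN x
    obtain ⟨d', hd'⟩ := hN y
    rw [← finsum_add_distrib ((Finset.finite_toSet _).subset (support_subset hd _))
      ((Finset.finite_toSet _).subset (support_subset hd' _))]
    refine finsum_congr fun j => ?_
    rw [map_add, smul_add]
  map_smul' c x := by
    rw [RingHom.id_apply, smul_finsum]
    refine finsum_congr fun j => ?_
    rw [map_smul, smul_comm]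

theorem e_apply (i : ℕ) {d : ℕ} {h : H} (hd : h ∈ N k H d) :
    e hN i h = ∑ j ∈ Finset.range d, (binom k j).coeff i • (p k H ^ j) h :=
  finsum_eq_sum_of_support_subset _ (support_subset hd _)

/-- The Adams operation `u ^ n` is a polynomial in `n` with coefficients the `e i`. -/
theorem u_pow_apply [CharZero k] {d : ℕ} {h : H} (hd : h ∈ N k H d) (n : ℕ) :
    (u k H ^ n) h = ∑ i ∈ Finset.range d, ((n : k) ^ i) • e hN i h := by
  have h1 : (u k H ^ n) h = ∑ j ∈ Finset.range d, (n.choose j : k) • (p k H ^ j) h := by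
    rw [u_pow, ofConv_sum, LinearMap.sum_apply]
    have h2 : ∀ m, n + 1 ≤ m → ∑ j ∈ Finset.range (n + 1), ((n.choose j) • p k H ^ j).ofConv h
        = ∑ j ∈ Finset.range m, (n.choose j : k) • (p k H ^ j) h := by
      intro m hm
      rw [← Finset.sum_subset (Finset.range_mono hm)]
      · refine Finset.sum_congr rfl fun j _ => ?_
        rw [← Nat.cast_smul_eq_nsmul k, ofConv_smul, LinearMap.smul_apply]
      · intro j _ hj
        rw [Finset.mem_range, not_lt] at hj
        rw [Nat.choose_eq_zero_of_lt (by omega), Nat.cast_zero, zero_smul]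
    have h3 : ∀ m, d ≤ m → ∑ j ∈ Finset.range d, (n.choose j : k) • (p k H ^ j) h
        = ∑ j ∈ Finset.range m, (n.choose j : k) • (p k H ^ j) h := by
      intro m hm
      refine Finset.sum_subset (Finset.range_mono hm) ?_
      intro j _ hj
      rw [Finset.mem_range, not_lt] at hj
      rw [p_pow_eq_zero k H hj hd, smul_zero]
    rw [h2 (max (n + 1) d) (le_max_left _ _), h3 (max (n + 1) d) (le_max_right _ _)]
  rw [h1]
  simp only [e_apply hN _ hd, Finset.smul_sum]
  rw [Finset.sum_comm]
  refine Finset.sum_congr rfl fun j hj => ?_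
  simp only [smul_smul]
  rw [← Finset.sum_smul]
  congr 1
  rw [← binom_eval, eval_eq_sum_range' (n := d) (lt_of_le_of_lt (binom_natDegree k j) (Finset.mem_range.1 hj))]
  refine Finset.sum_congr rfl fun i _ => ?_
  rw [mul_comm]

include hN in
/-- Every finite tensor lives on a large step of the filtration. -/
theorem exists_range (t : H ⊗[k] H) :
    ∃ d₀ : ℕ, ∀ d, d₀ ≤ d → t ∈ LinearMap.range (TensorProduct.map (N k H d).subtype (N k H d).subtype) := by
  induction t using TensorProduct.induction_on with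
  | zero => exact ⟨0, fun d _ => zero_mem _⟩
  | tmul x y =>
    obtain ⟨a, ha⟩ := hN x
    obtain ⟨b, hb⟩ := hN y
    refine ⟨max a b, fun d hd => ⟨(⟨x, N_mono ((le_max_left a b).trans hd) ha⟩ : N k H d) ⊗ₜ[k]
      (⟨y, N_mono ((le_max_right a b).trans hd) hb⟩ : N k H d), rfl⟩⟩
  | add x y hx hy =>
    obtain ⟨a, ha⟩ := hx
    obtain ⟨b, hb⟩ := hy
    exact ⟨max a b, fun d hd => add_mem (ha d ((le_max_left a b).trans hd)) (hb d ((le_max_right a b).trans hd))⟩

include hN in
/-- A good step of the filtration for an element. -/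
theorem exists_good (h : H) (m : ℕ) : ∃ d : ℕ, m ≤ d ∧ h ∈ N k H d ∧
    (comul h : H ⊗[k] H) ∈ LinearMap.range (TensorProduct.map (N k H d).subtype (N k H d).subtype) := by
  obtain ⟨a, ha⟩ := hN h
  obtain ⟨b, hb⟩ := exists_range hN (comul h : H ⊗[k] H)
  exact ⟨max m (max a b), le_max_left _ _, N_mono ((le_max_left a b).trans (le_max_right _ _)) ha,
    hb _ ((le_max_right a b).trans (le_max_right _ _))⟩

theorem map_u_pow [CharZero k] {d : ℕ} {t : H ⊗[k] H}
    (ht : t ∈ LinearMap.range (TensorProduct.map (N k H d).subtype (N k H d).subtype)) (n m : ℕ) :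
    TensorProduct.map (u k H ^ n).ofConv (u k H ^ m).ofConv t =
      ∑ a ∈ Finset.range d, ∑ b ∈ Finset.range d,
        ((n : k) ^ a * (m : k) ^ b) • TensorProduct.map (e hN a) (e hN b) t := by
  obtain ⟨s, rfl⟩ := ht
  induction s using TensorProduct.induction_on with
  | zero => simp
  | tmul x y =>
    simp only [TensorProduct.map_tmul, Submodule.subtype_apply]
    rw [u_pow_apply hN x.2, u_pow_apply hN y.2, TensorProduct.sum_tmul]
    refine Finset.sum_congr rfl fun a _ => ?_
    rw [TensorProduct.tmul_sum]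
    refine Finset.sum_congr rfl fun b _ => ?_
    rw [TensorProduct.smul_tmul_smul]
  | add x y hx hy =>
    simp only [map_add, hx, hy, smul_add, Finset.sum_add_distrib]

theorem e_zero_apply [CharZero k] (h : H) : e hN 0 h = algebraMap k H (counit h) := by
  obtain ⟨d, hd2, hd, -⟩ := exists_good hN h 1
  have := u_pow_apply hN hd 0
  rw [pow_zero, LinearMap.convOne_apply] at this
  rw [this, Finset.sum_eq_single 0]
  · simp
  · intro b _ hb
    rw [Nat.cast_zero, zero_pow hb, zero_smul]
  · intro h0
    exact absurd (Finset.mem_range.2 (by omega)) h0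

/-- `u = ∑ e i`. -/
theorem self_eq_sum [CharZero k] {d : ℕ} {h : H} (hd : h ∈ N k H d) : h = ∑ i ∈ Finset.range d, e hN i h := by
  have := u_pow_apply hN hd 1
  rw [pow_one] at this
  simp only [Nat.cast_one, one_pow, one_smul] at this
  exact this

end

section AlgHom

variable {B : Type*} [Ring B] [Algebra k B]

theorem algHom_comp_pow (g : H →ₐ[k] B) (F : WithConv (H →ₗ[k] H)) (n : ℕ) :
    toConv (g.toLinearMap ∘ₗ (F ^ n).ofConv) = (toConv (g.toLinearMap ∘ₗ F.ofConv)) ^ n := by
  induction n with
  | zero =>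
    ext x
    simp
  | succ n ih =>
    rw [pow_succ, pow_succ, ← ih]
    ext x
    have := LinearMap.algHom_comp_convMul_distrib g (F ^ n) F
    exact LinearMap.congr_fun this x

end AlgHom

/-- The Adams operations of a cocommutative bialgebra are coalgebra maps. -/
theorem comul_u_pow [IsCocomm k H] (n : ℕ) (h : H) :
    (comul ((u k H ^ n) h) : H ⊗[k] H) = TensorProduct.map (u k H ^ n).ofConv (u k H ^ n).ofConv (comul h) := by
  let i1 : H →ₐ[k] H ⊗[k] H := Algebra.TensorProduct.includeLeft
  let i2 : H →ₐ[k] H ⊗[k] H := Algebra.TensorProduct.includeRight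
  have hmul : ∀ (F G : WithConv (H →ₗ[k] H)) (x : H),
      (toConv (i1.toLinearMap ∘ₗ F.ofConv) * toConv (i2.toLinearMap ∘ₗ G.ofConv)) x
        = TensorProduct.map F.ofConv G.ofConv (comul x) := by
    intro F G x
    rw [LinearMap.convMul_apply]
    generalize (comul x : H ⊗[k] H) = t
    induction t using TensorProduct.induction_on with
    | zero => simp
    | add x y hx hy => simp only [map_add, hx, hy]
    | tmul x y => simp [i1, i2]
  have hmul' : ∀ (F G : WithConv (H →ₗ[k] H)) (x : H),
      (toConv (i2.toLinearMap ∘ₗ G.ofConv) * toConv (i1.toLinearMap ∘ₗ F.ofConv)) x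
        = TensorProduct.map F.ofConv G.ofConv (comul x) := by
    intro F G x
    rw [LinearMap.convMul_apply]
    conv_lhs => rw [← Coalgebra.comm_comul k x]
    generalize (comul x : H ⊗[k] H) = t
    induction t using TensorProduct.induction_on with
    | zero => simp
    | add x y hx hy => simp only [map_add, hx, hy]
    | tmul x y => simp [i1, i2]
  have hc : (toConv ((Bialgebra.comulAlgHom k H).toLinearMap ∘ₗ (u k H).ofConv) : WithConv (H →ₗ[k] H ⊗[k] H))
      = toConv (i1.toLinearMap ∘ₗ (u k H).ofConv) * toConv (i2.toLinearMap ∘ₗ (u k H).ofConv) := by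
    ext x
    rw [hmul]
    simp [u]
  have hcomm : Commute (toConv (i1.toLinearMap ∘ₗ (u k H).ofConv)) (toConv (i2.toLinearMap ∘ₗ (u k H).ofConv)) := by
    change _ * _ = _ * _
    ext x
    rw [hmul, hmul']
  have h1 : (comul ((u k H ^ n) h) : H ⊗[k] H)
      = (toConv ((Bialgebra.comulAlgHom k H).toLinearMap ∘ₗ (u k H ^ n).ofConv)).ofConv h := rfl
  rw [h1, algHom_comp_pow, hc, hcomm.mul_pow, ← algHom_comp_pow, ← algHom_comp_pow, hmul]

section

variable [CharZero k] (hN : ∀ h : H, ∃ n, h ∈ N k H n)

/-- `e 1` has values in the primitive elements. -/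
theorem comul_e_one [IsCocomm k H] (h : H) :
    (comul (e hN 1 h) : H ⊗[k] H) = e hN 1 h ⊗ₜ[k] (1 : H) + (1 : H) ⊗ₜ[k] e hN 1 h := by
  obtain ⟨d, hd2, hd, hdt⟩ := exists_good hN h 2
  have key := VecPoly.sum_filter_eq (k := k) (Finset.range d) (fun i => i) (fun i => (comul (e hN i h) : H ⊗[k] H))
    (Finset.range d ×ˢ Finset.range d) (fun ab => ab.1 + ab.2)
    (fun ab => TensorProduct.map (e hN ab.1) (e hN ab.2) (comul h)) (by
      intro n
      rw [Finset.sum_product]
      have h1 := comul_u_pow (k := k) n h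
      rw [map_u_pow hN hdt, u_pow_apply hN hd, map_sum] at h1
      simp only [map_smul] at h1
      rw [h1]
      refine Finset.sum_congr rfl fun a _ => Finset.sum_congr rfl fun b _ => ?_
      rw [pow_add]) 1
  have hf1 : (Finset.range d).filter (fun i => i = 1) = {1} := by
    ext i
    simp only [Finset.mem_filter, Finset.mem_range, Finset.mem_singleton]
    omega
  have hf2 : (Finset.range d ×ˢ Finset.range d).filter (fun ab => ab.1 + ab.2 = 1) = {(1, 0), (0, 1)} := by
    ext ⟨a, b⟩
    simp only [Finset.mem_filter, Finset.mem_product, Finset.mem_range, Finset.mem_insert, Finset.mem_singleton,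
      Prod.mk.injEq]
    omega
  rw [hf1, hf2, Finset.sum_singleton, Finset.sum_pair (by simp)] at key
  rw [key]
  have h0 : e hN 0 = Algebra.linearMap k H ∘ₗ counit := by
    ext x
    rw [e_zero_apply]
    rfl
  congr 1
  · rw [h0]
    have : TensorProduct.map (e hN 1) (Algebra.linearMap k H ∘ₗ counit) (comul h : H ⊗[k] H)
        = TensorProduct.map (e hN 1) (Algebra.linearMap k H) (counit.lTensor H (comul h)) := by
      rw [← LinearMap.map_comp_lTensor]
      rfl
    rw [this]
    simp
  · rw [h0]
    have : TensorProduct.map (Algebra.linearMap k H ∘ₗ counit) (e hN 1) (comul h : H ⊗[k] H)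
        = TensorProduct.map (Algebra.linearMap k H) (e hN 1) (counit.rTensor H (comul h)) := by
      rw [← LinearMap.map_comp_rTensor]
      rfl
    rw [this]
    simp

/-- `(j + 1) e (j+1) = e 1 * e j`. -/
theorem succ_smul_e_succ (j : ℕ) (h : H) :
    ((j + 1 : ℕ) : k) • e hN (j + 1) h = (toConv (e hN 1) * toConv (e hN j)) h := by
  obtain ⟨d, hd2, hd, hdt⟩ := exists_good hN h (j + 2)
  refine sub_eq_zero.1 ((Module.forall_dual_apply_eq_zero_iff k _).1 fun f => ?_)
  rw [map_sub, sub_eq_zero, map_smul, smul_eq_mul]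
  -- the polynomial `P = ∑ f (e i h) X ^ i`
  let P : k[X] := ∑ i ∈ Finset.range d, C (f (e hN i h)) * X ^ i
  have hP : ∀ n : ℕ, P.eval (n : k) = f ((u k H ^ n) h) := by
    intro n
    rw [u_pow_apply hN hd, map_sum, eval_finsetSum]
    refine Finset.sum_congr rfl fun i _ => ?_
    rw [eval_mul, eval_C, eval_pow, eval_X, map_smul, smul_eq_mul, mul_comm]
  have hadd : ∀ n m : ℕ, f ((u k H ^ (n + m)) h) = ∑ a ∈ Finset.range d, ∑ b ∈ Finset.range d,
      ((n : k) ^ a * (m : k) ^ b) * f ((toConv (e hN a) * toConv (e hN b)) h) := by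
    intro n m
    rw [pow_add, LinearMap.convMul_apply, map_u_pow hN hdt]
    simp only [map_sum, map_smul, smul_eq_mul]
    rfl
  have hT : ∀ m : ℕ, taylor (m : k) P = ∑ a ∈ Finset.range d,
      C (∑ b ∈ Finset.range d, (m : k) ^ b * f ((toConv (e hN a) * toConv (e hN b)) h)) * X ^ a := by
    intro m
    apply VecPoly.poly_eq_of_forall_nat
    intro n
    rw [taylor_eval, ← Nat.cast_add, hP, hadd, eval_finsetSum]
    refine Finset.sum_congr rfl fun a _ => ?_
    rw [eval_mul, eval_C, eval_pow, eval_X, Finset.sum_mul]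
    refine Finset.sum_congr rfl fun b _ => ?_
    ring
  have hD : derivative P = ∑ b ∈ Finset.range d, C (f ((toConv (e hN 1) * toConv (e hN b)) h)) * X ^ b := by
    apply VecPoly.poly_eq_of_forall_nat
    intro m
    rw [← taylor_coeff_one, hT m, finsetSum_coeff, eval_finsetSum]
    simp only [coeff_C_mul, coeff_X_pow, mul_ite, mul_one, mul_zero]
    rw [Finset.sum_ite_eq (Finset.range d) 1, if_pos (Finset.mem_range.2 (by omega))]
    refine Finset.sum_congr rfl fun b _ => ?_
    rw [eval_mul, eval_C, eval_pow, eval_X, mul_comm]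
  have h1 := congrArg (fun q => q.coeff j) hD
  simp only [coeff_derivative, P, finsetSum_coeff, coeff_C_mul, coeff_X_pow, mul_ite, mul_one, mul_zero] at h1
  rw [Finset.sum_ite_eq (Finset.range d) (j + 1), if_pos (Finset.mem_range.2 (by omega)),
    Finset.sum_ite_eq (Finset.range d) j, if_pos (Finset.mem_range.2 (by omega))] at h1
  rw [← h1]
  push_cast
  ring

end

section Prim

variable {x : H} (hx : (comul x : H ⊗[k] H) = x ⊗ₜ[k] (1 : H) + (1 : H) ⊗ₜ[k] x)

include hx

theorem comul_pow (m : ℕ) : (comul (x ^ m) : H ⊗[k] H)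
    = ∑ i ∈ Finset.range (m + 1), (m.choose i) • ((x ^ i) ⊗ₜ[k] (x ^ (m - i))) := by
  rw [Bialgebra.comul_pow, hx]
  have hc : Commute (x ⊗ₜ[k] (1 : H)) ((1 : H) ⊗ₜ[k] x) := by
    change _ * _ = _ * _
    simp
  rw [hc.add_pow]
  refine Finset.sum_congr rfl fun i _ => ?_
  rw [Algebra.TensorProduct.tmul_pow, Algebra.TensorProduct.tmul_pow, Algebra.TensorProduct.tmul_mul_tmul, one_pow,
    one_pow, one_mul, mul_one, nsmul_eq_mul]
  exact ((Nat.cast_commute _ _).eq).symm

theorem conv_pow_apply {B : Type*} [Ring B] [Algebra k B] (F G : WithConv (H →ₗ[k] B)) (m : ℕ) :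
    (F * G) (x ^ m) = ∑ i ∈ Finset.range (m + 1), (m.choose i) • (F (x ^ i) * G (x ^ (m - i))) := by
  rw [LinearMap.convMul_apply, comul_pow hx, map_sum, map_sum]
  refine Finset.sum_congr rfl fun i _ => ?_
  rw [map_nsmul, map_nsmul, TensorProduct.map_tmul, LinearMap.mul'_apply]

theorem counit_pow (m : ℕ) (hm : m ≠ 0) : (counit (x ^ m) : k) = 0 := by
  have h0 : (counit x : k) = 0 := by
    have h1 := Coalgebra.rTensor_counit_comul (R := k) x
    rw [hx, map_add, LinearMap.rTensor_tmul, LinearMap.rTensor_tmul, Bialgebra.counit_one] at h1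
    have h2 := congrArg (TensorProduct.lid k H) h1
    simp only [map_add, TensorProduct.lid_tmul, one_smul] at h2
    have h3 : (counit x : k) • (1 : H) = 0 := by simpa using h2
    have h4 := congrArg (counit (R := k) (A := H)) h3
    simpa using h4
  rw [Bialgebra.counit_pow, h0, zero_pow hm]

theorem u_pow_prim (n m : ℕ) : (u k H ^ n) (x ^ m) = ((n : k) ^ m) • x ^ m := by
  induction n generalizing m with
  | zero =>
    rw [pow_zero, LinearMap.convOne_apply]
    by_cases hm : m = 0
    · subst hm
      simp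
    · rw [counit_pow hx m hm, Nat.cast_zero, zero_pow hm, map_zero, zero_smul]
  | succ n ih =>
    rw [pow_succ, conv_pow_apply hx, Nat.cast_succ, add_pow, Finset.sum_smul]
    refine Finset.sum_congr rfl fun i hi => ?_
    have hi' : i ≤ m := Nat.lt_succ_iff.1 (Finset.mem_range.1 hi)
    rw [ih]
    have : (u k H) (x ^ (m - i)) = x ^ (m - i) := rfl
    rw [this, smul_mul_assoc, ← pow_add, Nat.add_sub_cancel' hi', one_pow, mul_one, mul_comm, mul_smul,
      Nat.cast_smul_eq_nsmul]

variable [CharZero k] (hN : ∀ h : H, ∃ n, h ∈ N k H n)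

/-- `e i (x ^ m) = δ_{i,m} x ^ m` for `x` primitive. -/
theorem e_pow_prim (i m : ℕ) : e hN i (x ^ m) = if i = m then x ^ m else 0 := by
  obtain ⟨d, hd2, hd, -⟩ := exists_good hN (x ^ m) (i + m + 1)
  have h1 : ∀ n : ℕ, ∑ j ∈ Finset.range d, ((n : k) ^ j) • (e hN j (x ^ m) - if j = m then x ^ m else 0) = 0 := by
    intro n
    simp only [smul_sub, Finset.sum_sub_distrib, smul_ite, smul_zero]
    rw [← u_pow_apply hN hd, u_pow_prim hx, Finset.sum_ite_eq' (Finset.range d) m,
      if_pos (Finset.mem_range.2 (by omega)), sub_self]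
  have := VecPoly.eq_zero_of_forall_nat d _ h1 (i := i) (by omega)
  exact sub_eq_zero.1 this

end Prim

end Groth.Agent.Sga3.H815.Adams
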