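import Groth.Prelude.Def_SGA3y
import Mathlib.RingTheory.Coalgebra.Convolution
import Mathlib.LinearAlgebra.TensorProduct.Basis
import Mathlib.LinearAlgebra.TensorProduct.RightExactness
import Mathlib.LinearAlgebra.Basis.VectorSpace
import Mathlib.RingTheory.Nakayama
import Mathlib.RingTheory.Flat.Basic
import Mathlib.LinearAlgebra.FiniteDimensional.Lemmas

/-!
# Connected cocommutative bialgebras: the augmentation part of the identity is locally nilpotent

For a bialgebra `H` over a field let `N 0 = 0`, `N (i+1) = {x | Δ x - x ⊗ 1 ∈ N i ⊗ H}`.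
* `N_conv`: if `F` kills `N i` and `G 1 = 0` then the convolution product `F * G` kills `N (i+1)`.
* `exists_mem_N`: if `H` is cocommutative and connected then every element lies in some `N i`.
The proof of the second point uses the action of the commutative convolution algebra `H →ₗ k` on `H` and Nakayama's
lemma.
-/

set_option autoImplicit false

namespace Groth.Agent.Sga3.H815.LocNil

open TensorProduct Coalgebra WithConv

section LinAlg

variable {k : Type*} [Field k] {V V₂ W W₂ : Type*} [AddCommGroup V] [Module k V] [AddCommGroup W] [Module k W]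
  [AddCommGroup V₂] [Module k V₂] [AddCommGroup W₂] [Module k W₂]

theorem slice_rTensor (f : Module.Dual k W) (g : V →ₗ[k] V₂) (t : V ⊗[k] W) :
    TensorProduct.rid k V₂ (f.lTensor V₂ (g.rTensor W t)) = g (TensorProduct.rid k V (f.lTensor V t)) := by
  induction t using TensorProduct.induction_on with
  | zero => simp
  | tmul x y => simp
  | add x y hx hy => simp only [map_add, hx, hy]

/-- A tensor all of whose slices lie in `V'` comes from `V' ⊗ W`. -/
theorem mem_range_rTensor_of_slice (V' : Submodule k V) (t : V ⊗[k] W)
    (h : ∀ f : Module.Dual k W, TensorProduct.rid k V (f.lTensor V t) ∈ V') :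
    t ∈ LinearMap.range (V'.subtype.rTensor W) := by
  have hex : Function.Exact (V'.subtype.rTensor W) (V'.mkQ.rTensor W) :=
    rTensor_exact W (LinearMap.exact_subtype_mkQ V') V'.mkQ_surjective
  rw [← LinearMap.exact_iff.1 hex, LinearMap.mem_ker]
  let b := Module.Free.chooseBasis k W
  apply (TensorProduct.equivFinsuppOfBasisRight (M := V ⧸ V') b).injective
  ext i
  rw [TensorProduct.equivFinsuppOfBasisRight_apply, map_zero, Finsupp.zero_apply, slice_rTensor,
    Submodule.mkQ_apply, Submodule.Quotient.mk_eq_zero]
  exact h _

/-- `(V' ⊗ W) ∩ (V ⊗ W') = V' ⊗ W'` inside `V ⊗ W`. -/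
theorem mem_range_map_of_mem (V' : Submodule k V) (W' : Submodule k W) (t : V ⊗[k] W)
    (h1 : t ∈ LinearMap.range (V'.subtype.rTensor W)) (h2 : t ∈ LinearMap.range (W'.subtype.lTensor V)) :
    t ∈ LinearMap.range (TensorProduct.map V'.subtype W'.subtype) := by
  obtain ⟨s, rfl⟩ := h1
  have hex : Function.Exact (W'.subtype.lTensor V) (W'.mkQ.lTensor V) :=
    lTensor_exact V (LinearMap.exact_subtype_mkQ W') W'.mkQ_surjective
  have hex' : Function.Exact (W'.subtype.lTensor V') (W'.mkQ.lTensor V') :=
    lTensor_exact V' (LinearMap.exact_subtype_mkQ W') W'.mkQ_surjective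
  have h3 : W'.mkQ.lTensor V (V'.subtype.rTensor W s) = 0 := (hex _).2 h2
  have h4 : V'.subtype.rTensor (W ⧸ W') (W'.mkQ.lTensor V' s) = 0 := by
    rw [← h3, ← LinearMap.comp_apply, ← LinearMap.comp_apply, LinearMap.lTensor_comp_rTensor,
      LinearMap.rTensor_comp_lTensor]
  have hinj : Function.Injective (V'.subtype.rTensor (W ⧸ W')) :=
    Module.Flat.rTensor_preserves_injective_linearMap _ V'.injective_subtype
  have h5 : W'.mkQ.lTensor V' s = 0 := hinj (by rw [h4, map_zero])
  obtain ⟨r, rfl⟩ := (hex' _).1 h5
  refine ⟨r, ?_⟩
  rw [← LinearMap.comp_apply, LinearMap.rTensor_comp_lTensor]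

end LinAlg

section Filtration

variable (k : Type*) [Field k] (H : Type*) [Ring H] [Bialgebra k H]

/-- `x ↦ Δ x - x ⊗ 1`. -/
noncomputable def D : H →ₗ[k] H ⊗[k] H := comul - (TensorProduct.mk k H H).flip 1

theorem D_apply (x : H) : D k H x = comul x - x ⊗ₜ[k] (1 : H) := rfl

/-- The filtration `N 0 = 0`, `N (i+1) = {x | Δ x - x ⊗ 1 ∈ N i ⊗ H}`. -/
noncomputable def N : ℕ → Submodule k H
  | 0 => ⊥
  | (i + 1) => (LinearMap.range ((N i).subtype.rTensor H)).comap (D k H)

variable {k H}

theorem mem_N_succ {i : ℕ} {x : H} : x ∈ N k H (i + 1) ↔ D k H x ∈ LinearMap.range ((N k H i).subtype.rTensor H) :=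
  Iff.rfl

omit [Bialgebra k H] in
theorem range_rTensor_mono [Module k H] {V V' : Submodule k H} (h : V ≤ V') :
    LinearMap.range (V.subtype.rTensor H) ≤ LinearMap.range (V'.subtype.rTensor H) := by
  have : V.subtype = V'.subtype ∘ₗ Submodule.inclusion h := rfl
  rw [this, LinearMap.rTensor_comp]
  exact LinearMap.range_comp_le_range _ _

theorem N_le_succ (i : ℕ) : N k H i ≤ N k H (i + 1) := by
  induction i with
  | zero => exact bot_le
  | succ i ih =>
    intro x hx
    exact range_rTensor_mono ih hx

theorem N_mono : Monotone (N k H) := monotone_nat_of_le_succ N_le_succ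

/-- The key nilpotence mechanism. -/
theorem N_conv {B : Type*} [Ring B] [Algebra k B] {F G : WithConv (H →ₗ[k] B)} (hG : G 1 = 0) {i : ℕ}
    (hF : ∀ x ∈ N k H i, F x = 0) {x : H} (hx : x ∈ N k H (i + 1)) : (F * G) x = 0 := by
  rw [LinearMap.convMul_apply]
  have h1 : (comul x : H ⊗[k] H) = D k H x + x ⊗ₜ[k] (1 : H) := by rw [D_apply]; abel
  rw [h1, map_add, map_add, TensorProduct.map_tmul, LinearMap.mul'_apply, hG, mul_zero, add_zero]
  obtain ⟨s, hs⟩ := mem_N_succ.1 hx
  rw [← hs, LinearMap.rTensor, ← LinearMap.comp_apply (TensorProduct.map _ _), ← TensorProduct.map_comp]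
  have h2 : F.ofConv ∘ₗ (N k H i).subtype = 0 := by
    ext y
    exact hF y y.2
  rw [h2]
  simp

/-- Powers of a map killing `1` are locally nilpotent along the filtration `N`. -/
theorem N_conv_pow {B : Type*} [Ring B] [Algebra k B] {G : WithConv (H →ₗ[k] B)} (hG : G 1 = 0) {i j : ℕ}
    (hij : i ≤ j) {x : H} (hx : x ∈ N k H i) : (G ^ j) x = 0 := by
  have key : ∀ j : ℕ, ∀ x ∈ N k H j, (G ^ j) x = 0 := by
    intro j
    induction j with
    | zero =>
      intro x hx
      have : x = 0 := hx
      rw [this, map_zero]
    | succ j ih =>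
      intro x hx
      rw [pow_succ]
      exact N_conv hG ih hx
  exact key j x (N_mono hij hx)

end Filtration

section Action

variable {k : Type*} [Field k] {H : Type*} [Ring H] [Bialgebra k H]

/-- The action of the convolution algebra on `H`. -/
noncomputable def act (f : WithConv (H →ₗ[k] k)) : H →ₗ[k] H :=
  (TensorProduct.rid k H).toLinearMap ∘ₗ f.ofConv.lTensor H ∘ₗ comul

theorem act_apply (f : WithConv (H →ₗ[k] k)) (x : H) :
    act f x = TensorProduct.rid k H (f.ofConv.lTensor H (comul x)) := rfl

theorem act_one' : act (1 : WithConv (H →ₗ[k] k)) = LinearMap.id := by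
  ext x
  rw [act_apply, LinearMap.convOne_def]
  simp

theorem act_add' (f g : WithConv (H →ₗ[k] k)) : act (f + g) = act f + act g := by
  ext x
  simp [act_apply, LinearMap.lTensor_add]

theorem act_mul' (f g : WithConv (H →ₗ[k] k)) : act (f * g) = act f ∘ₗ act g := by
  -- `T (x ⊗ (y ⊗ z)) = f y * g z • x`
  let T : H ⊗[k] (H ⊗[k] H) →ₗ[k] H :=
    (TensorProduct.rid k H).toLinearMap ∘ₗ
      (LinearMap.mul' k k ∘ₗ TensorProduct.map f.ofConv g.ofConv).lTensor H
  have h1 : ∀ t : H ⊗[k] H, act f (TensorProduct.rid k H (g.ofConv.lTensor H t))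
      = T (TensorProduct.assoc k H H H (comul.rTensor H t)) := by
    intro t
    induction t using TensorProduct.induction_on with
    | zero => simp
    | add x y hx hy => simp only [map_add, hx, hy]
    | tmul x y =>
      simp only [LinearMap.lTensor_tmul, TensorProduct.rid_tmul, map_smul, LinearMap.rTensor_tmul]
      rw [act_apply]
      generalize (comul x : H ⊗[k] H) = s
      induction s using TensorProduct.induction_on with
      | zero => simp
      | add u v hu hv => simp only [map_add, hu, hv, smul_add, TensorProduct.add_tmul]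
      | tmul u v =>
        simp [T, smul_smul, mul_comm]
  ext x
  rw [LinearMap.comp_apply, act_apply g x, h1, Coalgebra.coassoc_apply, act_apply, LinearMap.convMul_def]
  simp only [T, LinearMap.comp_apply]
  rw [LinearEquiv.coe_coe, ← LinearMap.comp_assoc, LinearMap.lTensor_comp]
  rfl

/-- The action as a ring homomorphism. -/
noncomputable def actHom : WithConv (H →ₗ[k] k) →+* Module.End k H where
  toFun := act
  map_one' := act_one'
  map_mul' := act_mul'
  map_zero' := by
    ext x
    simp [act_apply]
  map_add' := act_add'

/-- The module structure of `H` over the convolution algebra. -/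
@[reducible] noncomputable def actModule (k : Type*) [Field k] (H : Type*) [Ring H] [Bialgebra k H] :
    Module (WithConv (H →ₗ[k] k)) H :=
  Module.compHom H (actHom (k := k) (H := H))

attribute [local instance] actModule

theorem smul_def' (f : WithConv (H →ₗ[k] k)) (x : H) : f • x = act f x := rfl

instance : IsScalarTower k (WithConv (H →ₗ[k] k)) H where
  smul_assoc c f x := by
    rw [smul_def', smul_def', act_apply, act_apply, ofConv_smul, LinearMap.lTensor_smul]
    simp

theorem smul_one' (f : WithConv (H →ₗ[k] k)) : f • (1 : H) = f (1 : H) • (1 : H) := by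
  rw [smul_def', act_apply, Bialgebra.comul_one, Algebra.TensorProduct.one_def]
  simp

/-- Submodules over the convolution algebra are subcoalgebras (cocommutative case). -/
theorem comul_mem_of_submodule [IsCocomm k H] (M : Submodule (WithConv (H →ₗ[k] k)) H) :
    ∀ d ∈ M.restrictScalars k, (comul d : H ⊗[k] H) ∈
      LinearMap.range (TensorProduct.map (M.restrictScalars k).subtype (M.restrictScalars k).subtype) := by
  intro d hd
  have h1 : (comul d : H ⊗[k] H) ∈ LinearMap.range ((M.restrictScalars k).subtype.rTensor H) := by
    apply mem_range_rTensor_of_slice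
    intro f
    exact M.smul_mem (toConv f) hd
  refine mem_range_map_of_mem _ _ _ h1 ?_
  obtain ⟨s, hs⟩ := h1
  refine ⟨TensorProduct.comm k _ _ s, ?_⟩
  rw [← Coalgebra.comm_comul k d, ← hs]
  generalize s = s
  induction s using TensorProduct.induction_on with
  | zero => simp
  | tmul x y => simp
  | add x y hx hy => simp only [map_add, hx, hy]

/-- The ideal of the functionals vanishing at `1`. -/
noncomputable def augIdeal (k : Type*) [Field k] (H : Type*) [Ring H] [Bialgebra k H] [IsCocomm k H] :
    Ideal (WithConv (H →ₗ[k] k)) where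
  carrier := {f | f (1 : H) = 0}
  add_mem' := by
    intro f g hf hg
    change f.ofConv 1 + g.ofConv 1 = 0
    rw [Set.mem_ofPred_eq] at hf hg
    rw [hf, hg, add_zero]
  zero_mem' := rfl
  smul_mem' := by
    intro f g hg
    rw [Set.mem_ofPred_eq] at hg ⊢
    rw [smul_eq_mul, LinearMap.convMul_apply, Bialgebra.comul_one, Algebra.TensorProduct.one_def]
    simp [hg]

/-- The cyclic submodules are finite dimensional. -/
theorem finite_span_singleton [IsCocomm k H] (h : H) :
    ((Submodule.span (WithConv (H →ₗ[k] k)) {h}).restrictScalars k).FG := by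
  let r := Coalgebra.Repr.arbitrary k h
  refine Submodule.FG.of_le (T := Submodule.span k (r.left '' (r.index : Set _))) ?_ ?_
  · exact Submodule.fg_span (Set.Finite.image _ r.index.finite_toSet)
  · intro x hx
    rw [Submodule.restrictScalars_mem, Submodule.mem_span_singleton] at hx
    obtain ⟨f, rfl⟩ := hx
    rw [smul_def', act_apply, ← r.eq, map_sum, map_sum]
    refine Submodule.sum_mem _ fun i hi => ?_
    rw [LinearMap.lTensor_tmul, TensorProduct.rid_tmul]
    exact Submodule.smul_mem _ _ (Submodule.subset_span ⟨i, hi, rfl⟩)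

/-- Nakayama step: finite dimensional submodules go down in the filtration. -/
theorem le_N_of_finrank [IsCocomm k H] (hconn : SGA3y.IsConnectedCoalg k H) (n : ℕ) :
    ∀ M : Submodule (WithConv (H →ₗ[k] k)) H, (M.restrictScalars k).FG →
      Module.finrank k (M.restrictScalars k) ≤ n → M.restrictScalars k ≤ N k H n := by
  induction n with
  | zero =>
    intro M hfg hn x hx
    have : Module.Finite k (M.restrictScalars k) := Module.Finite.iff_fg.2 hfg
    have h0 : Module.finrank k (M.restrictScalars k) = 0 := Nat.le_zero.1 hn
    rw [Submodule.finrank_eq_zero] at h0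
    rw [h0] at hx
    exact hx
  | succ n ih =>
    intro M hfg hn x hx
    have : Module.Finite k (M.restrictScalars k) := Module.Finite.iff_fg.2 hfg
    by_cases hM : M = ⊥
    · rw [hM] at hx
      have hx0 : x = 0 := by simpa using hx
      rw [hx0]
      exact zero_mem _
    -- the submodule `m M`
    set M' : Submodule (WithConv (H →ₗ[k] k)) H := augIdeal k H • M with hM'
    have hle : M' ≤ M := Submodule.smul_le_right
    have hne : M' ≠ M := by
      intro heq
      have hMfg : M.FG := by
        obtain ⟨s, hs⟩ := hfg
        refine ⟨s, le_antisymm ?_ ?_⟩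
        · rw [Submodule.span_le]
          intro y hy
          have : y ∈ M.restrictScalars k := by rw [← hs]; exact Submodule.subset_span hy
          exact this
        · intro y hy
          have hy' : y ∈ M.restrictScalars k := hy
          rw [← hs] at hy'
          exact Submodule.span_le_restrictScalars k _ _ hy'
      obtain ⟨r, hr1, hr2⟩ := Submodule.exists_sub_one_mem_and_smul_eq_zero_of_fg_of_le_smul (augIdeal k H) M hMfg
        (by rw [← hM', heq])
      have h1M : (1 : H) ∈ M.restrictScalars k := by
        refine hconn (M.restrictScalars k) (comul_mem_of_submodule M) ?_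
        intro h
        apply hM
        rw [eq_bot_iff]
        intro y hy
        have : y ∈ M.restrictScalars k := hy
        rw [h] at this
        exact this
      have h2 := hr2 1 h1M
      rw [smul_one'] at h2
      have h3 : r (1 : H) = 1 := by
        have : (r - 1 : WithConv (H →ₗ[k] k)) (1 : H) = 0 := hr1
        rw [ofConv_sub, LinearMap.sub_apply, LinearMap.convOne_apply, Bialgebra.counit_one,
          map_one (algebraMap k k), sub_eq_zero] at this
        exact this
      rw [h3, one_smul] at h2
      apply hM
      rw [eq_bot_iff]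
      intro y _
      have : y = y * 1 := (mul_one y).symm
      rw [this, h2, mul_zero]
      exact zero_mem _
    have hle' : M'.restrictScalars k ≤ M.restrictScalars k := hle
    have hlt : M'.restrictScalars k < M.restrictScalars k := by
      refine lt_of_le_of_ne hle' ?_
      intro h
      apply hne
      exact Submodule.restrictScalars_injective k _ _ h
    have hfr := Submodule.finrank_lt_finrank_of_lt hlt
    have hIH := ih M' (Submodule.FG.of_le hfg hle') (by omega)
    rw [mem_N_succ]
    apply mem_range_rTensor_of_slice
    intro f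
    apply hIH
    have : TensorProduct.rid k H (f.lTensor H (D k H x))
        = (toConv f - (f 1) • (1 : WithConv (H →ₗ[k] k))) • x := by
      rw [sub_smul, smul_assoc, one_smul, smul_def', act_apply, D_apply, map_sub, map_sub]
      simp
    have hf : (toConv f - (f 1) • (1 : WithConv (H →ₗ[k] k))) ∈ augIdeal k H := by
      change (toConv f - (f 1) • (1 : WithConv (H →ₗ[k] k))).ofConv (1 : H) = 0
      rw [ofConv_sub, LinearMap.sub_apply, ofConv_smul, LinearMap.smul_apply, LinearMap.convOne_apply,
        Bialgebra.counit_one, map_one (algebraMap k k)]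
      simp
    have hx' : x ∈ M := hx
    rw [this, Submodule.restrictScalars_mem, hM']
    exact Submodule.smul_mem_smul hf hx'

/-- In a connected cocommutative bialgebra the filtration `N` is exhaustive. -/
theorem exists_mem_N [IsCocomm k H] (hconn : SGA3y.IsConnectedCoalg k H) (h : H) : ∃ n, h ∈ N k H n :=
  ⟨_, le_N_of_finrank hconn _ (Submodule.span (WithConv (H →ₗ[k] k)) {h}) (finite_span_singleton h) le_rfl
    (Submodule.mem_span_singleton_self h)⟩

end Action

end Groth.Agent.Sga3.H815.LocNil
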